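import Cfsg.Agent.H289.NoAlt
import Cfsg.Agent.H283.OddSpor
import Cfsg.Agent.H284.SepOrd
import Cfsg.Agent.OrdDiv.Main
import Cfsg.Agent.StandardComponent.AltAut
import Cfsg.Agent.ClassificationK.PCompTransport
/-!
# No alternating `2`-components in the centralisers of involutory automorphisms, `p = 3` (helper998)

Completes `H289.NoAlt.noAlt` (helper289: `p ≥ 5`).

* `inn_of_dvd` : `K` with a good split (B,N)-pair of odd characteristic `p`, `x ∈ Aut(K)`, `x ^ 2 = 1`, `A` a component of
  `C_K(x)`, `p ∣ |A|`, the automorphisms of odd order of `A / Z(A)` inner: all the `p`-elements of `C_K(x)` lie in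
  `A C(A)` (so `H283.OddComp.oddRow_of_good` applies; `A` need not be normal);
* `isComponent_of` : a `2`-component of `C_K(x)` is a component;
* `noAlt3` : the theorem, `p = 3`, `m ≥ 9`; `noAlt_odd` : all odd `p`.
-/

set_option autoImplicit false

namespace Cfsg.Agent.H998.OddComp

open Cfsg Subgroup Cfsg.Agent.FixBN Cfsg.Agent.BpGate Cfsg.Agent.H283.OddComp Cfsg.Agent.H283.DescComp
open Cfsg.Agent.SignalizersComponents.Components
open Cfsg.Agent.H289.NoAlt (Gated AltCov)

universe u

/-- the odd automorphisms of `A_m` are inner -/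
theorem oi_alt {m : ℕ} (hm : 7 ≤ m) : H256.OddInner.OI ↥(alternatingGroup (Fin m)) := by
  refine H256.OddInner.OI.of_sq fun α => ?_
  obtain ⟨k, rfl⟩ : ∃ k, m = k + 2 := ⟨m - 2, by omega⟩
  obtain ⟨σ, hσ⟩ := StandardComponent.AltAut.exists_conj (m := k) (by omega) α
  have h2 : σ * σ ∈ alternatingGroup (Fin (k + 2)) := by
    rw [Equiv.Perm.mem_alternatingGroup, map_mul]
    exact Int.units_mul_self _
  refine ⟨⟨σ * σ, h2⟩, ?_⟩
  apply MulEquiv.ext
  intro x
  apply Subtype.ext
  change σ * σ * (x : Equiv.Perm (Fin (k + 2))) * (σ * σ)⁻¹ = _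
  rw [pow_two, MulAut.mul_apply, hσ, hσ]
  group

/-- an element of the normaliser inducing an automorphism of odd prime power order -/
theorem mem_sup_of_OI {p : ℕ} (hp : p.Prime) (hp2 : p ≠ 2) {H : Type*} [Group H] [Finite H] {A : Subgroup H}
    (hA : IsQuasisimple A) (h : H256.OddInner.OI (↥A ⧸ center ↥A)) {u : H} {n : ℕ} (hu : u ^ p ^ n = 1)
    (hun : u ∈ normalizer (A : Set H)) : u ∈ A ⊔ centralizer (A : Set H) := by
  have h1 : (Schreier.Balance.quoAut ↥A (A.normalizerMonoidHom ⟨u, hun⟩)) ^ p ^ n = 1 := by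
    rw [← map_pow, ← map_pow]
    have : (⟨u, hun⟩ : ↥(normalizer (A : Set H))) ^ p ^ n = 1 := Subtype.ext hu
    rw [this, map_one, map_one]
  have h2 : Odd (orderOf (Schreier.Balance.quoAut ↥A (A.normalizerMonoidHom ⟨u, hun⟩))) := by
    obtain ⟨k, -, hk⟩ := (Nat.dvd_prime_pow hp).1 (orderOf_dvd_of_pow_eq_one h1)
    rw [hk]
    exact (hp.odd_of_ne_two hp2).pow
  obtain ⟨a, ha⟩ := h _ h2
  exact mem_sup_of_quo hA hun ha

/-- the `p`-elements of the fixed points act on a component of order divisible by `p` as inner automorphisms -/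
theorem inn_of_dvd {K : Type*} [Group K] [Finite K] {p : ℕ} [hp : Fact p.Prime] (hp2 : p ≠ 2)
    (hK : HasSplit p K) (x : MulAut K) (hx : x ^ 2 = 1) {A : Subgroup ↥(fixedSubgroup x)} (hA : IsComponent A)
    (hd : p ∣ Nat.card A) (hoi : H256.OddInner.OI (↥A ⧸ center ↥A)) : H283.OddComp.Inn p A := by
  obtain ⟨Pa, d, hG, hI, hopp⟩ := FixOdd.Inst.gate (r := 2) (fun e => hp2 e.symm) hK x hx
  have h1 := Hp_le_normalizer hG hI hopp (J := A) ⟨hA, hd⟩
  rintro u ⟨n, hu⟩
  exact mem_sup_of_OI hp.out hp2 hA.2 hoi hu (h1 (mem_Hp hu))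

/-- `2`-components of the centraliser are components -/
theorem isComponent_of {K : Type*} [Group K] [Finite K] {p : ℕ} [hp : Fact p.Prime] (hp2 : p ≠ 2)
    (hK : HasGoodSplit p K) (x : MulAut K) (hx : x ^ 2 = 1) {J : Subgroup ↥(fixedSubgroup x)}
    (hJ : IsPComponent 2 J) : IsComponent J := by
  have hxx : ∀ g, x (x g) = g := fun g => by
    have := congrArg (fun y : MulAut K => y g) hx
    simpa [pow_two] using this
  have hgat : Gated p ↥(fixedSubgroup x) := H289.NoAlt.gated hp2 hK x hxx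
  obtain ⟨P, U, -, hg⟩ := hK
  have hperf : ⁅J, J⁆ = J := ClassificationK.PCompTransport.isPComponent_perfect 2 hJ
  refine ClassificationK.PCompTransport.isComponent_of_isPComponent 2 hJ ?_
  rw [Subgroup.commutator_eq_bot_iff_le_centralizer]
  have hLp : ⁅J.map (fixedSubgroup x).subtype, J.map (fixedSubgroup x).subtype⁆ = J.map (fixedSubgroup x).subtype := by
    rw [← Subgroup.map_commutator, hperf]
  have h1 := GoodSplit.out hp2 hg (x : K ≃* K) hxx (L := J.map (fixedSubgroup x).subtype) (map_subtype_le J) hLp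
  have hodd : Odd (Nat.card ↥(pPrimeCore 2 ↥(fixedSubgroup x))) :=
    H289.NoAlt.odd_pPrimeCore _
  obtain ⟨-, h3⟩ := hgat.fix _ (inferInstance) hodd
  have h2 : Lib.PComponents.pElem p (Reduce.fixSub (x : K ≃* K)) ≤
      (centralizer ((pPrimeCore 2 ↥(fixedSubgroup x) : Subgroup _) : Set ↥(fixedSubgroup x))).map
        (fixedSubgroup x).subtype := by
    unfold Lib.PComponents.pElem
    rw [closure_le]
    rintro y ⟨hy, n, hn⟩
    refine ⟨⟨y, hy⟩, ?_, rfl⟩
    rw [SetLike.mem_coe, mem_centralizer_iff]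
    intro z hz
    exact (h3 ⟨y, hy⟩ ⟨n, Subtype.ext hn⟩ z hz).symm
  intro a ha
  obtain ⟨b, hb, hba⟩ := h2 (h1 ⟨a, ha, rfl⟩)
  have h3 : b = a := Subtype.ext hba
  rwa [← h3]

/-- `(K / N) / Z(K / N) ≅ K / Z(K)` for a central subgroup `N` of the perfect group `K` -/
theorem exists_quotquot {K : Type*} [Group K] (hK : Group.IsPerfect K) {N : Subgroup K} [N.Normal]
    (hN : N ≤ center K) : Nonempty ((K ⧸ N) ⧸ center (K ⧸ N) ≃* K ⧸ center K) := by
  have hc : (center K).map (QuotientGroup.mk' N) = center (K ⧸ N) := by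
    apply le_antisymm
    · rintro _ ⟨x, hx, rfl⟩
      rw [Subgroup.mem_center_iff]
      intro g
      obtain ⟨y, rfl⟩ := QuotientGroup.mk'_surjective N g
      rw [← map_mul, ← map_mul, Subgroup.mem_center_iff.mp hx y]
    · intro g hg
      obtain ⟨x, rfl⟩ := QuotientGroup.mk'_surjective N g
      refine ⟨x, ?_, rfl⟩
      have h1 : (QuotientGroup.mk' (center K)) x ∈ center (K ⧸ center K) := by
        rw [Subgroup.mem_center_iff]
        intro z
        obtain ⟨y, rfl⟩ := QuotientGroup.mk'_surjective (center K) z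
        have h2 := Subgroup.mem_center_iff.mp hg (QuotientGroup.mk' N y)
        rw [← map_mul, ← map_mul, QuotientGroup.mk'_eq_mk'] at h2
        obtain ⟨z, hz, hz'⟩ := h2
        rw [← map_mul, ← map_mul, QuotientGroup.mk'_eq_mk']
        exact ⟨z, hN hz, hz'⟩
      have := hK
      rw [Group.IsPerfect.center_quotient_center_eq_bot, Subgroup.mem_bot] at h1
      exact (QuotientGroup.eq_one_iff x).mp h1
  exact ⟨(QuotientGroup.quotientMulEquivOfEq hc.symm).trans
    (QuotientGroup.quotientQuotientEquivQuotient N (center K) hN)⟩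

/-- the odd core of a quasisimple group is central -/
theorem oddCore_le_center {K : Type*} [Group K] [Finite K] (hK : IsQuasisimple K) (hq : ¬ Odd (Nat.card K)) :
    oddCore K ≤ center K := by
  have := hK.2
  have hn : ((oddCore K).map (QuotientGroup.mk' (center K))).Normal :=
    Subgroup.Normal.map inferInstance _ (QuotientGroup.mk'_surjective _)
  rcases hn.eq_bot_or_eq_top with h | h
  · rw [Subgroup.map_eq_bot_iff, QuotientGroup.ker_mk'] at h
    exact h
  · exfalso
    apply hq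
    have h1 : oddCore K ⊔ center K = ⊤ := by
      have h2 := congrArg (Subgroup.comap (QuotientGroup.mk' (center K))) h
      rw [Subgroup.comap_map_eq, QuotientGroup.ker_mk', Subgroup.comap_top] at h2
      exact h2
    have hab : (commutator K) ≤ oddCore K := by
      have hc : ∀ a b : K ⧸ oddCore K, a * b = b * a := by
        have h3 : Function.Surjective ((QuotientGroup.mk' (oddCore K)).comp (center K).subtype) := by
          intro y
          obtain ⟨k, rfl⟩ := QuotientGroup.mk'_surjective _ y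
          have hk : k ∈ oddCore K ⊔ center K := by rw [h1]; trivial
          obtain ⟨o, ho, z, hz, rfl⟩ := Subgroup.mem_sup_of_normal_left.1 hk
          refine ⟨⟨z, hz⟩, ?_⟩
          rw [map_mul]
          have : (QuotientGroup.mk' (oddCore K)) o = 1 := (QuotientGroup.eq_one_iff o).2 ho
          rw [this, one_mul]
          rfl
        intro a b
        obtain ⟨u, rfl⟩ := h3 a
        obtain ⟨v, rfl⟩ := h3 b
        have huv : u * v = v * u := Subtype.ext (mem_center_iff.1 v.2 _)
        rw [← map_mul, ← map_mul, huv]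
      rw [_root_.commutator_def, Subgroup.commutator_le]
      intro a _ b _
      rw [← QuotientGroup.eq_one_iff, commutatorElement_def]
      change (a : K ⧸ oddCore K) * b * (a : K ⧸ oddCore K)⁻¹ * (b : K ⧸ oddCore K)⁻¹ = 1
      rw [hc a b]; group
    have h4 : oddCore K = ⊤ := by
      rw [eq_top_iff]
      have := hK.1.commutator_eq_top
      rwa [this] at hab
    have h5 := H289.NoAlt.odd_pPrimeCore K
    have h6 : pPrimeCore 2 K = ⊤ := h4
    rw [h6, Subgroup.card_top] at h5
    exact h5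

/-- `A_m`, `m ≥ 9`, has no split (B,N)-pair of odd characteristic -/
theorem charBN_not_alt (T : OrdDiv.OrderTable.{u}) {p : ℕ} [Fact p.Prime] {Q : Type u} [Group Q] [Finite Q]
    (h : CharBN p Q) {m : ℕ} (hm : 9 ≤ m) (e : Q ≃* ↥(alternatingGroup (Fin m))) : False := by
  have hs : IsSimpleGroup ↥(alternatingGroup (Fin m)) :=
    alternatingGroup.isSimpleGroup (by rw [Nat.card_eq_fintype_card, Fintype.card_fin]; omega)
  have hsQ : IsSimpleGroup Q := (MulEquiv.isSimpleGroup_congr e).2 hs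
  have hc := OrdDiv.alt_card (by omega) e
  obtain ⟨P, h1, h2⟩ := h.isSplit
  rcases H283.OddSpor.lie_of_concl (S1144.result P h1 h2) with ⟨r, hr, h⟩ | h
  · obtain ⟨X, f, hX⟩ := H284.SepOrd.real_of_lie T hr h
    rcases H902.Art.alt_lie hX (by omega) hc.symm with h1 | h1 | h1
    · rw [h1] at hc
      have := H902.Art.alt_inj (M := 60) (m := 5) (by omega) hc.symm (by decide)
      omega
    · rw [h1] at hc
      have := H902.Art.alt_inj (M := 360) (m := 6) (by omega) hc.symm (by decide)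
      omega
    · rw [h1] at hc
      have := H902.Art.alt_inj (M := 20160) (m := 8) (by omega) hc.symm (by decide)
      omega
  · have h3 := NotCT.Orders.tits h
    rw [h3] at hc
    have h7 : 7 ∣ m.factorial := (by decide : 7 ∣ Nat.factorial 7).trans (Nat.factorial_dvd_factorial (by omega))
    rw [hc] at h7
    norm_num at h7

/-- **No alternating components** in the groups with a good split (B,N)-pair: `p` divides the order. -/
theorem false_of_good (T : OrdDiv.OrderTable.{u}) {K : Type u} [Group K] [Finite K] {p : ℕ} [hp : Fact p.Prime]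
    (hp2 : p ≠ 2) (hK : HasGoodSplit p K) (x : MulAut K) (hx : x ^ 2 = 1) {A : Subgroup ↥(fixedSubgroup x)}
    (hA : IsComponent A) {m : ℕ} (hm : 9 ≤ m) (hpm : p ≤ m)
    (e : (↥A ⧸ center ↥A) ≃* ↥(alternatingGroup (Fin m))) : False := by
  have hc := OrdDiv.alt_card (by omega) e
  have hd : p ∣ Nat.card A := by
    have h1 : p ∣ Nat.card (↥A ⧸ center ↥A) := by
      have h2 : p ∣ m.factorial := hp.out.dvd_factorial.2 hpm
      rw [hc] at h2
      rcases hp.out.dvd_mul.1 h2 with h3 | h3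
      · exact absurd ((Nat.prime_dvd_prime_iff_eq hp.out Nat.prime_two).1 h3) hp2
      · exact h3
    exact h1.trans (Subgroup.card_quotient_dvd_card _)
  have hin := inn_of_dvd hp2 hK.hasSplit x hx hA hd ((oi_alt (by omega)).congr e)
  exact charBN_not_alt T (oddRow_of_good hp2 hK x hx A hA hin) hm e

/-- the `2`-component version -/
theorem false_of_pcomp (T : OrdDiv.OrderTable.{u}) {K : Type u} [Group K] [Finite K] {p : ℕ} [hp : Fact p.Prime]
    (hp2 : p ≠ 2) (hK : HasGoodSplit p K) (x : MulAut K) (hx : x ^ 2 = 1) {J : Subgroup ↥(fixedSubgroup x)}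
    (hJ : IsPComponent 2 J) {m : ℕ} (hm : 9 ≤ m) (hpm : p ≤ m)
    (e : Nonempty ((↥J ⧸ oddCore ↥J) ⧸ center (↥J ⧸ oddCore ↥J) ≃* ↥(alternatingGroup (Fin m)))) : False := by
  obtain ⟨e⟩ := e
  have hc := isComponent_of hp2 hK x hx hJ
  have hq := hc.2
  have hodd : ¬ Odd (Nat.card ↥J) := by
    intro h
    have h1 : Nat.card ((↥J ⧸ oddCore ↥J) ⧸ center (↥J ⧸ oddCore ↥J)) ∣ Nat.card ↥J :=
      (Subgroup.card_quotient_dvd_card _).trans (Subgroup.card_quotient_dvd_card _)
    rw [Nat.card_congr e.toEquiv] at h1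
    have h2 := ((by norm_num : (2 : ℕ) ∣ 16).trans (H289.NoAlt.sixteen_dvd (m := m) (by omega))).trans h1
    rw [Nat.odd_iff] at h
    omega
  obtain ⟨f⟩ := exists_quotquot (N := oddCore ↥J) hq.1 (oddCore_le_center hq hodd)
  exact false_of_good T hp2 hK x hx hc hm hpm (f.symm.trans e)

/-- **THEOREM NoAlt**, `p = 3`, `m ≥ 9` -/
theorem noAlt3 (T : OrdDiv.OrderTable.{0}) {K : Type*} [Group K] [IsSimpleGroup K] (hK : IsLieTypeChar 3 K)
    (τ : K ≃* K) (hτ : ∀ g, τ (τ g) = g) {C : Type*} [Group C] [Finite C] (ε : C ≃* ↥(Reduce.fixSub τ))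
    {m : ℕ} (hm : 9 ≤ m) {J : Subgroup C} (hJ : IsPComponent 2 J)
    (hA : AltCov 3 m (↥J ⧸ oddCore ↥J)) : False := by
  rcases exists_good_model (by omega) hK with ⟨K₀, _, _, _, _, h, ⟨e⟩⟩ | hR
  · obtain ⟨J', hJ', hA'⟩ := H289.NoAlt.exists_comp (ε.trans (H289.NoAlt.fixEquiv e τ)) hJ hA
    refine false_of_pcomp T (by norm_num) h ((e.symm.trans τ).trans e) ?_ (J := J') hJ' hm (by omega) hA'.alt
    apply MulEquiv.ext
    intro g
    change e (τ (e.symm (e (τ (e.symm g))))) = g
    rw [e.symm_apply_apply, hτ, e.apply_symm_apply]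
  · obtain ⟨_, h16⟩ := H289.NoAlt.ree hR
    apply h16
    refine (H289.NoAlt.sixteen_dvd (by omega)).trans (hA.dvd.trans ?_)
    rw [Nat.card_congr ε.toEquiv]
    exact Subgroup.card_subgroup_dvd_card _

/-- **THEOREM NoAlt**, `p` odd, `m ≥ 9` -/
theorem noAlt_odd (T : OrdDiv.OrderTable.{0}) {p : ℕ} (hp : p.Prime) (hp2 : p ≠ 2) {K : Type*} [Group K]
    [IsSimpleGroup K] (hK : IsLieTypeChar p K) (τ : K ≃* K) (hτ : ∀ g, τ (τ g) = g) {C : Type*} [Group C]
    [Finite C] (ε : C ≃* ↥(Reduce.fixSub τ)) {m : ℕ} (hm : 9 ≤ m) {J : Subgroup C} (hJ : IsPComponent 2 J)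
    (hA : AltCov p m (↥J ⧸ oddCore ↥J)) : False := by
  have h2 := hp.two_le
  by_cases h3 : p = 3
  · subst h3
    exact noAlt3 T hK τ hτ ε hm hJ hA
  · have h4 : p ≠ 4 := by rintro rfl; exact absurd hp (by norm_num)
    exact H289.NoAlt.noAlt (by omega) hK τ hτ ε (by omega) hJ hA

end Cfsg.Agent.H998.OddComp
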